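import Groth.Agent.L28.Devissage.Main

/-! # Reduced closed subschemes and extensions by zero from dense opens -/

set_option autoImplicit false
set_option linter.style.haveILetI false
set_option linter.unusedSectionVars false
set_option backward.isDefEq.respectTransparency.types false

universe u

open CategoryTheory CategoryTheory.Limits AlgebraicGeometry Opposite CategoryTheory.Abelian TopologicalSpace

noncomputable section

namespace Groth.L28.Devissage

open Groth.L27

variable {W : Scheme.{u}}

/-- The reduced closed subscheme on a closed set, with its universal property. -/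
theorem exists_reduced (C : Set ↥W) (hC : IsClosed C) :
    ∃ (Z : Scheme.{u}) (c : Z ⟶ W) (_ : IsClosedImmersion c), IsReduced Z ∧ Set.range c = C ∧
      ∀ (T : Scheme.{u}) [IsReduced T] (f : T ⟶ W), Set.range f ⊆ C → ∃ l : T ⟶ Z, l ≫ c = f := by
  let I := Scheme.IdealSheafData.vanishingIdeal (⟨C, hC⟩ : Closeds ↥W)
  refine ⟨I.subscheme, I.subschemeι, inferInstance, L18.isReduced_vanishingIdeal_subscheme _,
    (Scheme.IdealSheafData.range_subschemeι I).trans (L18.support_vanishingIdeal _), fun T _ f hf => ?_⟩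
  exact ⟨IsClosedImmersion.lift I.subschemeι f
    (by rw [Scheme.IdealSheafData.ker_subschemeι]; exact L18.vanishingIdeal_le_ker f _ hf),
    IsClosedImmersion.lift_fac _ _ _⟩

theorem exists_integral (C : Set ↥W) (hC : IsClosed C) (hirr : IsIrreducible C) :
    ∃ (Z : Scheme.{u}) (c : Z ⟶ W) (_ : IsClosedImmersion c) (_ : IsIntegral Z), Set.range c = C ∧
      ∀ (T : Scheme.{u}) [IsReduced T] (f : T ⟶ W), Set.range f ⊆ C → ∃ l : T ⟶ Z, l ≫ c = f := by
  obtain ⟨Z, c, hc, hred, hr, hlift⟩ := exists_reduced C hC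
  haveI := hc; haveI := hred
  haveI : IrreducibleSpace ↥Z := by
    haveI : IrreducibleSpace ↥(Set.range c) := by rw [hr]; exact Subtype.irreducibleSpace hirr
    exact c.isClosedEmbedding.isEmbedding.toHomeomorph.symm.surjective.irreducibleSpace
      c.isClosedEmbedding.isEmbedding.toHomeomorph.symm.continuous
  exact ⟨Z, c, hc, isIntegral_of_irreducibleSpace_of_isReduced Z, hr, hlift⟩

/-- Base change along the identity is the identity on the small étale site. -/
def bcIdIso (X : Scheme.{u}) : EtCoh.bc (𝟙 X) ≅ 𝟭 X.Etale :=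
  NatIso.ofComponents
    (fun U =>
      let h : U.left ⟶ X := U.hom
      MorphismProperty.Over.isoMk (@asIso _ _ _ _ (pullback.fst h (𝟙 X)) (IsPullback.of_hasPullback h (𝟙 X)).isIso_fst_of_isIso)
        ((pullback.condition (f := h) (g := 𝟙 X)).trans (Category.comp_id _)))
    (fun {U V} φ => by
      apply MorphismProperty.Over.Hom.ext
      exact pullback.lift_fst _ _ _)

/-- Direct image along the identity. -/
def pushIdIso (X : Scheme.{u}) : EtCoh.push (𝟙 X) ≅ 𝟭 (EtCoh.Ab X) :=
  Functor.sheafPushforwardContinuousId' (bcIdIso X) AddCommGrpCat.{u + 1} X.smallEtaleTopology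

/-- Extension by zero through a closed subscheme. -/
theorem nonempty_extZero_comp {R S : Scheme.{u}} [IsNoetherian W] (c : R ⟶ W) [IsClosedImmersion c]
    (v' : S ⟶ R) [IsOpenImmersion v'] [EtShriek.JCont v'] (v : S ⟶ W) [IsOpenImmersion v] [EtShriek.JCont v]
    (w : v' ≫ c = v) (F : EtCoh.Ab S) (hF : EtCoh.IsTorsion F) :
    Nonempty ((EtShriek.extZero v).obj F ≅ (EtCoh.push c).obj ((EtShriek.extZero v').obj F)) := by
  obtain ⟨e⟩ := L27.PBC.nonempty_lowerShriek_Rpush c v (𝟙 S) v' (w.trans (Category.id_comp v).symm) F hF 0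
  haveI := preservesFiniteLimits_push c
  haveI := preservesFiniteLimits_push (𝟙 S)
  exact ⟨(L27.ExtZero.shriekIso v).app _ ≪≫
      (EtShriek.lowerShriek v).mapIso (((EtCoh.push (𝟙 S)).rightDerivedZeroIsoSelf).app F ≪≫ (pushIdIso S).app F).symm ≪≫
      e ≪≫ ((EtCoh.push c).rightDerivedZeroIsoSelf).app _ ≪≫
      (EtCoh.push c).mapIso ((L27.ExtZero.shriekIso v').app F).symm⟩

/-- The restriction of a constant sheaf to an open. -/
def restrConst {S : Scheme.{u}} (v : S ⟶ W) [IsOpenImmersion v] [EtShriek.JCont v] (M : Type) [AddCommGroup M] :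
    (EtShriek.restrAlong v).obj (EtCoh.const W M) ≅ EtCoh.const S M :=
  ((L27.ExtZero.pullRestr v).app (EtCoh.const W M)).symm ≪≫ EtCore.pullConst v M

/-- Constant cohomology from an open and its closed complement. -/
theorem const_of_open {S Z : Scheme.{u}} (v : S ⟶ W) [IsOpenImmersion v] [EtShriek.JCont v] (i : Z ⟶ W)
    [IsClosedImmersion i] (hij : Set.range v.base = (Set.range i.base)ᶜ) (M : Type) [AddCommGroup M] (q : ℕ)
    (hU : Subsingleton (EtCoh.H W ((EtShriek.extZero v).obj (EtCoh.const S M)) q))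
    (hZ : Subsingleton (EtCoh.H Z (EtCoh.const Z M) q)) : Subsingleton (EtCoh.H W (EtCoh.const W M) q) :=
  recollement v i hij _ q (of_iso ((EtShriek.extZero v).mapIso (restrConst v M)) q hU)
    (of_iso (EtCore.pullConst i M) q hZ)

/-- Extension by zero of constants from an open and its closed complement. -/
theorem extZero_of_const {S Z : Scheme.{u}} (v : S ⟶ W) [IsOpenImmersion v] [EtShriek.JCont v] (i : Z ⟶ W)
    [IsClosedImmersion i] (hij : Set.range v.base = (Set.range i.base)ᶜ) (M : Type) [AddCommGroup M] (q : ℕ)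
    (hW : Subsingleton (EtCoh.H W (EtCoh.const W M) (q + 1)))
    (hZ : Subsingleton (EtCoh.H Z (EtCoh.const Z M) q)) :
    Subsingleton (EtCoh.H W ((EtShriek.extZero v).obj (EtCoh.const S M)) (q + 1)) := by
  obtain ⟨w, hS⟩ := L27.ExtZero.exists_shortExact_recollement v i hij (EtCoh.const W M)
  refine of_iso ((EtShriek.extZero v).mapIso (restrConst v M)).symm (q + 1) ?_
  refine subsingleton_of_forall_eq 0 fun x => ?_
  obtain ⟨y, hy⟩ := L27.LimCoh.exists_δH hS q x (@Subsingleton.elim _ hW _ _)
  have hy0 : y = 0 := @Subsingleton.elim _ (of_push i _ q (of_iso (EtCore.pullConst i M) q hZ)) _ _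
  rw [← hy, hy0]
  exact map_zero _

end Groth.L28.Devissage
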