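import Groth.Agent.L28.FinCovCrit.Trunc
import Groth.Agent.L27.ExtZero.Recollement
import Groth.Agent.L27.EtSite.Push

/-! # Vanishing of cohomology through exact sequences, retracts and closed subschemes -/

set_option autoImplicit false
set_option linter.style.haveILetI false
set_option linter.unusedSectionVars false
set_option backward.isDefEq.respectTransparency.types false

universe u

open CategoryTheory CategoryTheory.Limits AlgebraicGeometry Opposite CategoryTheory.Abelian

noncomputable section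

namespace Groth.L28.Devissage

open Groth.L27 Groth.L27.LimCoh Groth.L27.DerBC

variable {X : Scheme.{u}}

theorem retract {F G : EtCoh.Ab X} (s : F ⟶ G) (r : G ⟶ F) (hsr : s ≫ r = 𝟙 F) (q : ℕ)
    (h : Subsingleton (EtCoh.H X G q)) : Subsingleton (EtCoh.H X F q) := by
  refine subsingleton_of_forall_eq 0 fun x => ?_
  have e : (EtCoh.HF X q).map (s ≫ r) x = x := by
    rw [hsr, CategoryTheory.Functor.map_id]; rfl
  rw [← e, HF_map_comp, show (EtCoh.HF X q).map s x = 0 from @Subsingleton.elim _ h _ _]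
  exact map_zero _

theorem of_iso {F G : EtCoh.Ab X} (e : F ≅ G) (q : ℕ) (h : Subsingleton (EtCoh.H X G q)) :
    Subsingleton (EtCoh.H X F q) :=
  retract e.hom e.inv e.hom_inv_id q h

theorem middle {S : ShortComplex (EtCoh.Ab X)} (hS : S.ShortExact) (q : ℕ)
    (h₁ : Subsingleton (EtCoh.H X S.X₁ q)) (h₃ : Subsingleton (EtCoh.H X S.X₃ q)) :
    Subsingleton (EtCoh.H X S.X₂ q) :=
  PBC.subsingleton_middle hS q h₁ h₃

theorem of_isZero {F : EtCoh.Ab X} (hF : IsZero F) (q : ℕ) : Subsingleton (EtCoh.H X F q) := by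
  refine subsingleton_of_forall_eq 0 fun x => ?_
  have e : (EtCoh.HF X q).map (𝟙 F) x = x := by rw [CategoryTheory.Functor.map_id]; rfl
  rw [← e, hF.eq_of_src (𝟙 F) 0]
  exact FinCovCrit.HF_map_zero_apply F q x

theorem of_push {Y : Scheme.{u}} (π : Y ⟶ X) [IsIntegralHom π] (G : EtCoh.Ab Y) (q : ℕ)
    (h : Subsingleton (EtCoh.H Y G q)) : Subsingleton (EtCoh.H X ((EtCoh.push π).obj G) q) := by
  haveI := EtSite.preservesFiniteLimits_pull π
  exact (EtSite.bijective_HofPush π G
    (fun s hs => EtSite.isZero_Rpush_of_propB π (EtSite.propB_of_isIntegralHom π) _ s hs) q).1.subsingleton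

theorem preservesFiniteLimits_push {Y : Scheme.{u}} (π : Y ⟶ X) : PreservesFiniteLimits (EtCoh.push π) := by
  haveI : PreservesLimitsOfSize.{0, 0} (EtCoh.push π) := (EtCoh.pullPushAdj π).rightAdjoint_preservesLimits
  exact PreservesLimitsOfSize.preservesFiniteLimits _

theorem preservesFiniteColimits_push {Y : Scheme.{u}} (π : Y ⟶ X) [IsIntegralHom π] :
    PreservesFiniteColimits (EtCoh.push π) := by
  haveI := preservesFiniteLimits_push π
  haveI := EtSite.preservesEpimorphisms_push π (EtSite.propB_of_isIntegralHom π)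
  haveI : (EtCoh.push π).Additive := (EtCoh.pullPushAdj π).right_adjoint_additive
  haveI : (EtCoh.push π).PreservesHomology := (EtCoh.push π).preservesHomology_of_preservesEpis_and_kernels
  exact Functor.preservesFiniteColimits_of_preservesHomology _

/-- The sequence of an open subscheme and a closed complement, as a criterion. -/
theorem recollement {U Z : Scheme.{u}} (j : U ⟶ X) [IsOpenImmersion j] [AlgebraicGeometry.Etale j]
    [EtShriek.JCont j] (i : Z ⟶ X) [IsClosedImmersion i] (hij : Set.range j.base = (Set.range i.base)ᶜ)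
    (F : EtCoh.Ab X) (q : ℕ) (hU : Subsingleton (EtCoh.H X ((EtShriek.extZero j).obj ((EtShriek.restrAlong j).obj F)) q))
    (hZ : Subsingleton (EtCoh.H Z ((EtCoh.pull i).obj F) q)) : Subsingleton (EtCoh.H X F q) := by
  obtain ⟨w, hS⟩ := ExtZero.exists_shortExact_recollement j i hij F
  exact middle hS q hU (of_push i _ q hZ)

/-- A surjective closed immersion does not change cohomology. -/
theorem of_surjective_closed {Z : Scheme.{u}} (i : Z ⟶ X) [IsClosedImmersion i] (hi : Function.Surjective i.base)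
    (F : EtCoh.Ab X) (q : ℕ) (hZ : Subsingleton (EtCoh.H Z ((EtCoh.pull i).obj F) q)) :
    Subsingleton (EtCoh.H X F q) := by
  let O : X.Opens := ⊥
  haveI := L27.ExtZero.jCont O.ι
  refine recollement O.ι i ?_ F q (of_isZero ((EtShriek.extZero O.ι).map_isZero ?_) q) hZ
  · rw [Set.range_eq_univ.2 hi, Set.compl_univ, Scheme.Opens.range_ι]
    rfl
  · refine IsZero.of_iso ?_ ((ExtZero.pullRestr O.ι).app F).symm
    refine (EtSite.isZero_iff_stalks _).2 fun Ω _ _ v => ?_
    exact absurd (v default).2 (fun h => h)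

/-- Reduction of torsion sheaves to constructible sheaves killed by the prime. -/
theorem of_constructible [CompactSpace X] [QuasiSeparatedSpace X] {ℓ : ℕ} (hℓ : ℓ.Prime) (q : ℕ)
    (h : ∀ C : EtCoh.Ab X, EtPBC.IsConstructible C → ℓ • 𝟙 C = 0 → Subsingleton (EtCoh.H X C q))
    (F : EtCoh.Ab X) (hF : EtAcyc.IsLTorsion {ℓ} F) : Subsingleton (EtCoh.H X F q) := by
  have h1 : ∀ G : EtCoh.Ab X, ℓ • 𝟙 G = 0 → Subsingleton (EtCoh.H X G q) := by
    intro G hG
    have hT : EtCoh.IsTorsion G := AffineEfface.isTorsion_of_isLTorsion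
      (Killed.isLTorsion ⟨ℓ ^ 1, FinCovCrit.primesIn_pow hℓ 1, by rwa [pow_one]⟩)
    obtain ⟨hc⟩ := L28.ExtShriek.isColimit_presCocone (F := G) hT
    refine subsingleton_of_forall_eq 0 fun x => ?_
    obtain ⟨j, η, hη⟩ := (L28.ColimBig.commutes Colim.good (EtCore.topIsTerminal X) ⟨‹_›, ‹_›⟩ q
      (L28.ExtShriek.presDiag G) (L28.ExtShriek.presCocone G) hc).1 x
    obtain ⟨h2, h3, c', hc'⟩ := FinCovCrit.modN_spec (C := j.1.obj) j.1.isConstructible_obj
      ((L28.ExtShriek.presCocone G).ι.app j) hG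
    rw [← hη, ← HF_map_eq]
    refine (congrArg (fun t => (EtCoh.HF X q).map t η) hc'.symm).trans ((HF_map_comp _ c' q η).trans ?_)
    exact (congrArg _ (@Subsingleton.elim _ (h _ h2 h3) _ 0)).trans (map_zero _)
  have h2 : ∀ (a : ℕ) (G : EtCoh.Ab X), ℓ ^ a • 𝟙 G = 0 → Subsingleton (EtCoh.H X G q) := by
    intro a
    induction a with
    | zero =>
      intro G hG
      rw [pow_zero, one_nsmul] at hG
      exact of_isZero ((IsZero.iff_id_eq_zero G).2 hG) q
    | succ a ih =>
      intro G hG
      let μ : G ⟶ G := ℓ • 𝟙 G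
      let S := ShortComplex.mk (kernel.ι μ) (cokernel.π (kernel.ι μ)) (cokernel.condition _)
      have hS : S.ShortExact := { exact := ShortComplex.exact_of_g_is_cokernel _ (cokernelIsCokernel _) }
      refine middle hS q (h1 _ ?_) (ih _ ?_)
      · rw [← cancel_mono (kernel.ι μ), Preadditive.nsmul_comp, Category.id_comp, zero_comp,
          ← Category.comp_id (kernel.ι μ), ← Preadditive.comp_nsmul]
        exact kernel.condition μ
      · rw [← cancel_epi (cokernel.π (kernel.ι μ)), Preadditive.comp_nsmul, Category.comp_id, comp_zero,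
          ← Category.id_comp (cokernel.π (kernel.ι μ)), ← Preadditive.nsmul_comp,
          ← kernel.lift_ι μ (ℓ ^ a • 𝟙 G) (by
            simp only [μ, Preadditive.comp_nsmul, Category.comp_id, ← mul_nsmul', ← pow_succ']
            exact hG),
          Category.assoc, cokernel.condition, comp_zero]
  have hT : EtCoh.IsTorsion F := AffineEfface.isTorsion_of_isLTorsion hF
  haveI : AB5OfSize.{u, u} (EtCoh.Ab X) := AB5OfSize_shrink.{u, u, u + 1, u + 1} _
  haveI : HasExactColimitsOfShape (AsSmall.{u} ℕ) (EtCoh.Ab X) := inferInstance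
  obtain ⟨hc⟩ := Colim.isColimit_torCocone F hT
  refine subsingleton_of_forall_eq 0 fun x => ?_
  obtain ⟨j, η, rfl⟩ := (Colim.commutes Colim.good (EtCore.topIsTerminal X) (hT₀ := ⟨‹_›, ‹_›⟩) q
    (Colim.torDiag F) (Colim.torCocone F) hc).1 x
  obtain ⟨a, ha⟩ := (FinCovCrit.killed_pow_iff hℓ).1 (killed_torDiag F hF j)
  rw [show η = 0 from @Subsingleton.elim _ (h2 a _ ha) _ _]
  exact map_zero _

end Groth.L28.Devissage
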