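import Groth.Agent.L28.Devissage.Basic
import Groth.Agent.L27.FLC.Filtration
import Groth.Agent.L28.EtTrace.Basic
import Groth.Agent.L27.ExtZero.ToShriek
import Groth.Agent.L27.PBC.ShriekRpush
import Groth.Agent.S0385
import Mathlib.GroupTheory.Sylow

/-! # Finite locally constant sheaves via Galois covers and Sylow subgroups -/

set_option autoImplicit false
set_option linter.style.haveILetI false
set_option linter.unusedSectionVars false
set_option backward.isDefEq.respectTransparency.types false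

universe u

open CategoryTheory CategoryTheory.Limits AlgebraicGeometry Opposite CategoryTheory.Abelian

noncomputable section

namespace Groth.L28.Devissage

open Groth.L27 Groth.L27.FLC Groth.L27.FEtGal

/-- An `ℓ`-killed finite locally constant sheaf is a retract of the direct image along a finite étale
cover of a successive extension of constant sheaves. -/
theorem exists_retract_cover {V : Scheme.{u}} [ConnectedSpace V] {ℓ : ℕ} [hℓ : Fact ℓ.Prime] (L : EtCoh.Ab V)
    (hL : EtCoh.IsFiniteLocallyConstant L) (hk : ℓ • 𝟙 L = 0) :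
    ∃ (T : Scheme.{u}) (f : T ⟶ V) (_ : IsFinite f) (_ : AlgebraicGeometry.Etale f) (G : EtCoh.Ab T),
      Fil (EtCoh.const T (ZMod ℓ)) G ∧
        ∃ (s : L ⟶ (EtCoh.push f).obj G) (r : (EtCoh.push f).obj G ⟶ L), s ≫ r = 𝟙 L := by
  classical
  obtain ⟨A, hc, hsA, hfin, htor, N, hNf, hN, ⟨i⟩⟩ :=
    exists_galois_trivializing L hL ℓ (ProperH1.killedBy_of_nsmul_id hk)
  haveI := hc; haveI := hsA; haveI := hfin; haveI := hNf
  let P : Sylow ℓ (Aut A) := default
  obtain ⟨T, q, hqP, hq⟩ := exists_quotient A (P : Subgroup (Aut A))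
  let qa : A.left ⟶ T.left := q.left
  have hqa : qa ≫ hm T = hm A := MorphismProperty.Over.w q
  haveI : IsFinite (hm A) := A.prop.1
  haveI : AlgebraicGeometry.Etale (hm A) := A.prop.2
  haveI : IsFinite (hm T) := T.prop.1
  haveI : AlgebraicGeometry.Etale (hm T) := T.prop.2
  haveI : AlgebraicGeometry.Etale qa := by
    haveI : AlgebraicGeometry.Etale (qa ≫ hm T) := by rw [hqa]; infer_instance
    exact AlgebraicGeometry.Etale.of_comp qa (hm T)
  haveI : Surjective qa := ⟨fun t => by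
    obtain ⟨Ω, _, _, v, hv⟩ := FEtGal.exists_geometric t
    obtain ⟨a, ha⟩ := (hq Ω (v ≫ hm T)).1 ⟨v, rfl⟩
    refine ⟨a.1 default, ?_⟩
    rw [← hv]
    exact congrArg (fun b : Spec (CommRingCat.of Ω) ⟶ T.left => b default) (congrArg Subtype.val ha)⟩
  -- the degree
  have hdeg : ∀ s : V, (hm T).finrank s = (P : Subgroup (Aut A)).index := fun s => by
    obtain ⟨Ω, _, _, ξ, hξ⟩ := FEtGal.exists_geometric s
    rw [← hξ, ← Deg.card_fiber ξ T]
    obtain ⟨a, ha⟩ := htor Ω ξ
    let φ : Aut A → FEt.fiberObj ξ T := fun σ => (FEt.fiber ξ).map q ((FEt.fiber ξ).map σ.hom a)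
    have hφ : Function.Surjective φ := fun t => by
      obtain ⟨b, hb⟩ := (hq Ω ξ).1 t
      obtain ⟨σ, hσ⟩ := ha.2 b
      exact ⟨σ, (congrArg ((FEt.fiber ξ).map q) hσ).trans hb⟩
    have hrel : ∀ σ σ', φ σ = φ σ' ↔ (QuotientGroup.rightRel (P : Subgroup (Aut A))).r σ σ' := fun σ σ' => by
      rw [QuotientGroup.rightRel_apply]
      refine ⟨fun h => ?_, fun h => ?_⟩
      · obtain ⟨τ, hτ, he⟩ := (hq Ω ξ).2 _ _ h
        have : τ * σ = σ' := ha.1 (by
          show (FEt.fiber ξ).map (σ.hom ≫ τ.hom) a = _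
          rw [Functor.map_comp_apply]; exact he)
        rw [← this, mul_inv_cancel_right]
        exact hτ
      · show (FEt.fiber ξ).map q _ = (FEt.fiber ξ).map q _
        have e : σ' = (σ' * σ⁻¹) * σ := (inv_mul_cancel_right _ _).symm
        conv_rhs => rw [e]
        show _ = (FEt.fiber ξ).map q ((FEt.fiber ξ).map (σ.hom ≫ (σ' * σ⁻¹).hom) a)
        rw [Functor.map_comp_apply, ← Functor.map_comp_apply (FEt.fiber ξ) (σ' * σ⁻¹).hom q, hqP _ h]
    let Φ : Quotient (QuotientGroup.rightRel (P : Subgroup (Aut A))) ≃ FEt.fiberObj ξ T :=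
      Equiv.ofBijective (Quotient.lift φ fun a b h => (hrel a b).2 h)
        ⟨by rintro ⟨a⟩ ⟨b⟩ h; exact Quotient.sound ((hrel a b).1 h), fun t => by
          obtain ⟨σ, hσ⟩ := hφ t; exact ⟨Quotient.mk _ σ, hσ⟩⟩
    rw [← Nat.card_congr Φ, Subgroup.index]
    exact Nat.card_congr (QuotientGroup.quotientRightRelEquivQuotientLeftRel _)
  obtain ⟨Tr, hTr⟩ := EtTrace.exists_trace (hm T) _ hdeg
  -- invert the degree
  have hco : Nat.Coprime (P : Subgroup (Aut A)).index ℓ :=
    ((hℓ.out.coprime_iff_not_dvd).2 P.not_dvd_index).symm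
  obtain ⟨t, -, ht⟩ := Nat.exists_mul_mod_eq_of_coprime 1 hco hℓ.out.ne_zero
  refine ⟨T.left, hm T, inferInstance, inferInstance, (EtCoh.pull (hm T)).obj L, ?_,
    (EtCoh.pullPushAdj (hm T)).unit.app L, t • Tr.app L, ?_⟩
  · let σ : ↥(P.toSubgroup) → (A.left ⟶ A.left) := fun p => p.1.hom.left
    have hσq : ∀ p, σ p ≫ qa = qa := fun p => congrArg (fun k : A ⟶ T => k.left) (hqP p.1 p.2)
    refine fil_const qa P.2 σ hσq rfl (fun p p' => rfl) (fun Ω _ _ a b hab => ?_)
      ((EtCoh.pull (hm T)).obj L) N hN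
      (((EtCore.pullComp qa (hm T)).app L).symm ≪≫ (EtCore.pullCongr hqa).app L ≪≫ i)
    let ξ : Spec (CommRingCat.of Ω) ⟶ V := a ≫ hm A
    have hb : b ≫ hm A = ξ := by
      show b ≫ hm A = a ≫ hm A
      rw [← hqa, ← Category.assoc, ← hab, Category.assoc]
    obtain ⟨τ, hτ, he⟩ := (hq Ω ξ).2 ⟨a, rfl⟩ ⟨b, hb⟩ (Subtype.ext hab)
    exact ⟨⟨τ, hτ⟩, congrArg Subtype.val he⟩
  · rw [Preadditive.comp_nsmul, hTr, ← mul_nsmul']
    have hmod : ∀ x : ℕ, x • 𝟙 L = (x % ℓ) • 𝟙 L := fun x => by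
      conv_lhs => rw [← Nat.mod_add_div x ℓ]
      rw [add_nsmul, mul_comm ℓ, mul_nsmul', hk, smul_zero, add_zero]
    refine ((hmod _).trans ?_).trans (one_nsmul _)
    rw [hmod 1, mul_comm]
    exact congrArg (· • 𝟙 L) ht

/-- Extension by zero from an open after a finite étale cover is a finite direct image of an extension
by zero. -/
theorem exists_finite_extension {T V W : Scheme.{u}} [IsNoetherian W] (f : T ⟶ V) [IsFinite f] (u : V ⟶ W)
    [IsOpenImmersion u] [EtShriek.JCont u] (F : EtCoh.Ab T) (hF : EtCoh.IsTorsion F) :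
    ∃ (W' : Scheme.{u}) (π : W' ⟶ W) (_ : IsFinite π) (v : T ⟶ W') (_ : IsOpenImmersion v)
      (_ : EtShriek.JCont v),
      Nonempty ((EtShriek.extZero u).obj ((EtCoh.push f).obj F) ≅
        (EtCoh.push π).obj ((EtShriek.extZero v).obj F)) := by
  obtain ⟨W', v, π, hv, _, hπ, hw⟩ := Groth.Agent.S0385.result (f ≫ u)
  haveI := hv; haveI := hπ
  haveI := L27.ExtZero.jCont v
  obtain ⟨e⟩ := L27.PBC.nonempty_lowerShriek_Rpush π u f v hw F hF 0
  haveI := preservesFiniteLimits_push π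
  haveI := preservesFiniteLimits_push f
  exact ⟨W', π, hπ, v, hv, inferInstance,
    ⟨(L27.ExtZero.shriekIso u).app _ ≪≫
      (EtShriek.lowerShriek u).mapIso (((EtCoh.push f).rightDerivedZeroIsoSelf).app F).symm ≪≫ e ≪≫
      ((EtCoh.push π).rightDerivedZeroIsoSelf).app _ ≪≫
      (EtCoh.push π).mapIso ((L27.ExtZero.shriekIso v).app F).symm⟩⟩

theorem isZero_or_vanish_of_fil {T : Scheme.{u}} {W : Scheme.{u}} (Φ : EtCoh.Ab T ⥤ EtCoh.Ab W)
    [PreservesFiniteLimits Φ] [PreservesFiniteColimits Φ] (q : ℕ) {Q G : EtCoh.Ab T}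
    (hQ : Subsingleton (EtCoh.H W (Φ.obj Q) q)) (h : Fil Q G) : Subsingleton (EtCoh.H W (Φ.obj G) q) := by
  induction h with
  | zero hX =>
    haveI : Φ.Additive := Functor.additive_of_preserves_binary_products _
    exact of_isZero (Φ.map_isZero hX) q
  | @succ X s hs _ ih =>
    haveI := hs
    have hS : (ShortComplex.mk s (cokernel.π s) (cokernel.condition s)).ShortExact :=
      { exact := ShortComplex.exact_of_g_is_cokernel _ (cokernelIsCokernel s) }
    haveI : Φ.Additive := Functor.additive_of_preserves_binary_products _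
    exact middle (hS.map_of_exact Φ) q hQ ih

/-- Extension by zero of a finite locally constant sheaf killed by `ℓ`, from constant ones. -/
theorem extZero_flc {V W : Scheme.{u}} [IsNoetherian W] [ConnectedSpace V] (u : V ⟶ W) [IsOpenImmersion u]
    [EtShriek.JCont u] {ℓ : ℕ} [hℓ : Fact ℓ.Prime] (L : EtCoh.Ab V) (hL : EtCoh.IsFiniteLocallyConstant L)
    (hk : ℓ • 𝟙 L = 0) (q : ℕ)
    (h : ∀ (W' : Scheme.{u}) (π : W' ⟶ W) [IsFinite π] (S : Scheme.{u}) (v : S ⟶ W') [IsOpenImmersion v]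
      [EtShriek.JCont v], Subsingleton (EtCoh.H W' ((EtShriek.extZero v).obj (EtCoh.const S (ZMod ℓ))) q)) :
    Subsingleton (EtCoh.H W ((EtShriek.extZero u).obj L) q) := by
  obtain ⟨T, f, hf, _, G, hG, s, r, hsr⟩ := exists_retract_cover L hL hk
  haveI := hf
  refine retract ((EtShriek.extZero u).map s) ((EtShriek.extZero u).map r) (by
    rw [← Functor.map_comp, hsr, CategoryTheory.Functor.map_id]) q ?_
  haveI := preservesFiniteLimits_push f
  haveI := preservesFiniteColimits_push f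
  haveI := L27.ExtZero.preservesFiniteLimits_extZero u
  haveI : PreservesColimitsOfSize.{0, 0} (EtShriek.extZero u) :=
    (EtShriek.extZeroAdj u).leftAdjoint_preservesColimits
  haveI : PreservesFiniteColimits (EtShriek.extZero u) := PreservesColimitsOfSize.preservesFiniteColimits _
  haveI : NeZero ℓ := ⟨hℓ.out.ne_zero⟩
  obtain ⟨W', π, hπ, v, hv, _, ⟨e⟩⟩ := exists_finite_extension f u (EtCoh.const T (ZMod ℓ))
    (PBC.isTorsion_const T (ZMod ℓ))
  haveI := hπ; haveI := hv
  exact isZero_or_vanish_of_fil (EtCoh.push f ⋙ EtShriek.extZero u) q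
    (of_iso e q (of_push π _ q (h W' π T v))) hG

end Groth.L28.Devissage
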