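import Groth.Agent.L28.Devissage.Cover
import Groth.Agent.L28.Strata.Et
import Groth.Agent.L28.ExtShriek.Constr
import Groth.Agent.L18.KerReduced
import Mathlib.Topology.NoetherianSpace

/-! # Dévissage: torsion cohomology vanishes as soon as it does for extensions by zero of constant sheaves
on finite covers -/

set_option autoImplicit false
set_option linter.style.haveILetI false
set_option linter.unusedSectionVars false
set_option backward.isDefEq.respectTransparency.types false

universe u

open CategoryTheory CategoryTheory.Limits AlgebraicGeometry Opposite CategoryTheory.Abelian TopologicalSpace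

noncomputable section

namespace Groth.L28.Devissage

open Groth.L27

/-- The hypothesis: vanishing for extensions by zero of constant sheaves on all finite schemes. -/
def ConstVan (Y : Scheme.{u}) (ℓ q : ℕ) : Prop :=
  ∀ (Y' : Scheme.{u}) (π : Y' ⟶ Y) [IsFinite π] (S : Scheme.{u}) (v : S ⟶ Y') [IsOpenImmersion v]
    [EtShriek.JCont v], Subsingleton (EtCoh.H Y' ((EtShriek.extZero v).obj (EtCoh.const S (ZMod ℓ))) q)

theorem ConstVan.of_finite {Y W : Scheme.{u}} {ℓ q : ℕ} (h : ConstVan Y ℓ q) (c : W ⟶ Y) [IsFinite c] :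
    ConstVan W ℓ q := fun Y' π _ S v _ _ => h Y' (π ≫ c) S v

/-- A constructible sheaf is finite locally constant on a nonempty connected open of a reduced scheme. -/
theorem exists_open_flc {W : Scheme.{u}} [IsNoetherian W] [IsReduced W] [Nonempty W] {G : EtCoh.Ab W}
    (hG : EtPBC.IsConstructible G) :
    ∃ (V : Scheme.{u}) (u : V ⟶ W) (_ : IsOpenImmersion u), ConnectedSpace V ∧
      EtCoh.IsFiniteLocallyConstant ((EtCoh.pull u).obj G) := by
  obtain ⟨Z, hZ⟩ : (irreducibleComponents ↥W).Nonempty :=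
    ⟨_, irreducibleComponent_mem_irreducibleComponents (Classical.arbitrary W)⟩
  obtain ⟨O, hO, ⟨w, hw⟩, hOZ⟩ := NoetherianSpace.exists_isOpen_nonempty_subset_irreducibleComponent Z hZ
  obtain ⟨_, ⟨(U₀ : W.Opens), hU₀, rfl⟩, hwU, hUO⟩ := W.isBasis_affineOpens.exists_subset_of_mem_open hw hO
  have hirr : IsPreirreducible (U₀ : Set W) :=
    hZ.1.2.open_subset U₀.2 (hUO.trans hOZ)
  haveI : IrreducibleSpace ↥U₀.toScheme :=
    (Subtype.irreducibleSpace ⟨⟨w, hwU⟩, hirr⟩ : IrreducibleSpace ↥(U₀ : Set W))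
  obtain ⟨n, T, g, hg, -, -, hcov, hP⟩ := (Strata.isConstructible_iff G).1 hG U₀ hU₀
  obtain ⟨i, hi⟩ := Set.mem_iUnion.1 (hcov.symm ▸ Set.mem_univ (genericPoint ↥U₀.toScheme) :
    genericPoint ↥U₀.toScheme ∈ ⋃ i, Set.range (g i))
  haveI := hg i
  have hd : ∀ C : Set ↥U₀.toScheme, IsClosed C → genericPoint ↥U₀.toScheme ∈ C → C = Set.univ := fun C hC hη =>
    Set.eq_univ_of_forall fun x => ((genericPoint_spec _).specializes trivial).mem_closed hC hη
  haveI : IsReduced U₀.toScheme := isReduced_of_isOpenImmersion U₀.ι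
  haveI : IsReduced (g i).coborderRange.toScheme := isReduced_of_isOpenImmersion (g i).coborderRange.ι
  haveI : Surjective (g i).liftCoborder := ⟨fun x => by
    have hc : closure (Set.range (g i)) = Set.univ := hd _ isClosed_closure (subset_closure hi)
    have hx : x.1 ∈ Set.range (g i) := by
      have := x.2
      change x.1 ∈ coborder (Set.range (g i)) at this
      rw [coborder_eq_union_closure_compl, hc, Set.compl_univ, Set.union_empty] at this
      exact this
    obtain ⟨t, ht⟩ := hx
    refine ⟨t, Subtype.ext ?_⟩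
    rw [← ht]
    exact congrArg (fun k : T i ⟶ U₀.toScheme => k t) (g i).liftCoborder_ι⟩
  haveI : IsIso (g i).liftCoborder := isIso_of_isClosedImmersion_of_surjective _
  haveI : IsOpenImmersion (g i) := by rw [← (g i).liftCoborder_ι]; infer_instance
  refine ⟨T i, g i ≫ U₀.ι, inferInstance, ?_, hP i⟩
  haveI : Nonempty ↥(T i) := by obtain ⟨t, -⟩ := hi; exact ⟨t⟩
  haveI : PreirreducibleSpace ↥(T i) := (g i).isOpenEmbedding.preirreducibleSpace
  haveI : IrreducibleSpace ↥(T i) := { toNonempty := inferInstance }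
  infer_instance

/-- Dévissage for constructible sheaves. -/
theorem constructible {Y : Scheme.{u}} [IsNoetherian Y] {ℓ : ℕ} [Fact ℓ.Prime] (q : ℕ) (h : ConstVan Y ℓ q)
    (F : EtCoh.Ab Y) (hF : EtPBC.IsConstructible F) (hk : ℓ • 𝟙 F = 0) : Subsingleton (EtCoh.H Y F q) := by
  suffices H : ∀ (C : Closeds ↥Y) (W : Scheme.{u}) (c : W ⟶ Y) [IsClosedImmersion c], Set.range c ⊆ C →
      ∀ G : EtCoh.Ab W, EtPBC.IsConstructible G → ℓ • 𝟙 G = 0 → Subsingleton (EtCoh.H W G q) from
    H ⊤ Y (𝟙 Y) (Set.subset_univ _) F hF hk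
  intro C
  induction C using WellFoundedLT.induction with
  | _ C IH =>
  intro W c _ hcC G hG hk
  haveI : IsLocallyNoetherian W := LocallyOfFiniteType.isLocallyNoetherian c
  haveI : CompactSpace ↥W := QuasiCompact.compactSpace_of_compactSpace c
  haveI : IsNoetherian W := {}
  have hpull : ∀ {W' : Scheme.{u}} (a : W' ⟶ W), ℓ • 𝟙 ((EtCoh.pull a).obj G) = 0 := fun a => by
    haveI : (EtCoh.pull a).Additive := (EtCoh.pullPushAdj a).left_adjoint_additive
    rw [← CategoryTheory.Functor.map_id, ← Functor.map_nsmul, hk, Functor.map_zero]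
  -- reduce to a reduced scheme
  let I := Scheme.IdealSheafData.vanishingIdeal (⊤ : Closeds ↥W)
  haveI : IsReduced I.subscheme := L18.isReduced_vanishingIdeal_subscheme _
  have hrI : Function.Surjective I.subschemeι.base := by
    rw [← Set.range_eq_univ]
    exact (Scheme.IdealSheafData.range_subschemeι I).trans (L18.support_vanishingIdeal _)
  refine of_surjective_closed I.subschemeι hrI G q ?_
  let W₀ := I.subscheme
  let G₀ : EtCoh.Ab W₀ := (EtCoh.pull I.subschemeι).obj G
  let c₀ : W₀ ⟶ Y := I.subschemeι ≫ c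
  haveI : IsLocallyNoetherian W₀ := LocallyOfFiniteType.isLocallyNoetherian c₀
  haveI : CompactSpace ↥W₀ := QuasiCompact.compactSpace_of_compactSpace c₀
  haveI : IsNoetherian W₀ := {}
  have hc₀ : Set.range c₀ ⊆ C := fun y hy => by
    obtain ⟨z, rfl⟩ := hy
    exact hcC ⟨I.subschemeι z, (Scheme.Hom.comp_apply _ _ _).symm⟩
  rcases isEmpty_or_nonempty W₀ with he | he
  · exact of_isZero ((EtSite.isZero_iff_stalks _).2 fun Ω _ _ v => (he.false (v default)).elim) q
  obtain ⟨V, u, _, hV, hflc⟩ := exists_open_flc (W := W₀) (ExtShriek.isConstructible_pull I.subschemeι hG)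
  haveI := hV
  haveI := L27.ExtZero.jCont u
  let I' := Scheme.IdealSheafData.vanishingIdeal (⟨(Set.range u)ᶜ, u.isOpenEmbedding.isOpen_range.isClosed_compl⟩ : Closeds ↥W₀)
  have hI' : Set.range I'.subschemeι = (Set.range u)ᶜ :=
    (Scheme.IdealSheafData.range_subschemeι I').trans (L18.support_vanishingIdeal _)
  refine recollement u I'.subschemeι (by rw [hI', compl_compl]) G₀ q ?_ ?_
  · refine extZero_flc u ((EtShriek.restrAlong u).obj G₀)
      (Strata.isFLC_of_iso ((L27.ExtZero.pullRestr u).app G₀) hflc) ?_ q (h.of_finite c₀)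
    haveI : (EtShriek.restrAlong u).Additive := (EtShriek.extZeroAdj u).right_adjoint_additive
    rw [← CategoryTheory.Functor.map_id, ← Functor.map_nsmul, hpull, Functor.map_zero]
  · let c₁ : I'.subscheme ⟶ Y := I'.subschemeι ≫ c₀
    let C' : Closeds ↥Y := ⟨Set.range c₁, c₁.isClosedEmbedding.isClosed_range⟩
    have hlt : C' < C := by
      refine lt_of_le_not_ge ?_ ?_
      · rintro y ⟨z, rfl⟩
        exact hc₀ ⟨I'.subschemeι z, (Scheme.Hom.comp_apply _ _ _).symm⟩
      · intro hle
        obtain ⟨v⟩ : Nonempty ↥V := inferInstance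
        obtain ⟨z, hz⟩ := hle (hc₀ ⟨u v, rfl⟩)
        have hz' : I'.subschemeι z = u v :=
          c₀.isClosedEmbedding.injective ((Scheme.Hom.comp_apply _ _ _).symm.trans hz)
        exact (hI'.le ⟨z, rfl⟩) ⟨v, hz'.symm⟩
    refine IH C' hlt I'.subscheme c₁ (fun y hy => hy) _ (ExtShriek.isConstructible_pull _
      (ExtShriek.isConstructible_pull I.subschemeι hG)) ?_
    haveI : (EtCoh.pull I'.subschemeι).Additive := (EtCoh.pullPushAdj I'.subschemeι).left_adjoint_additive
    rw [← CategoryTheory.Functor.map_id, ← Functor.map_nsmul, hpull, Functor.map_zero]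

/-- Dévissage for torsion sheaves. -/
theorem torsion {Y : Scheme.{u}} [IsNoetherian Y] {ℓ : ℕ} (hℓ : ℓ.Prime) (q : ℕ) (h : ConstVan Y ℓ q)
    (F : EtCoh.Ab Y) (hF : EtAcyc.IsLTorsion {ℓ} F) : Subsingleton (EtCoh.H Y F q) :=
  haveI : Fact ℓ.Prime := ⟨hℓ⟩
  of_constructible hℓ q (fun C hC hk => constructible q h C hC hk) F hF

end Groth.L28.Devissage
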